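/-
Fully faithful, continuous and cocontinuous functors between sites: unit and counit.
-/
import Mathlib

set_option autoImplicit false

universe w v₁ v₂ v₃ u₁ u₂ u₃

open CategoryTheory CategoryTheory.Limits Opposite

namespace Groth.Agent.CohSiteLib2

variable {C : Type u₁} [Category.{v₁} C] {D : Type u₂} [Category.{v₂} D]
  (J : GrothendieckTopology C) (K : GrothendieckTopology D) (u : C ⥤ D)
  [u.IsCocontinuous J K] [u.IsContinuous J K] [u.Full] [u.Faithful]
  (A : Type u₃) [Category.{v₃} A]
  [∀ (F : Cᵒᵖ ⥤ A), u.op.HasPointwiseRightKanExtension F]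

theorem isIso_counit_cocontinuous :
    IsIso (u.sheafAdjunctionCocontinuous A J K).counit := by
  refine (NatTrans.isIso_iff_isIso_app _).2 fun H => ?_
  have : IsIso ((sheafToPresheaf _ _).map ((u.sheafAdjunctionCocontinuous A J K).counit.app H)) := by
    show IsIso ((u.sheafAdjunctionCocontinuous A J K).counit.app H).hom
    rw [Functor.sheafAdjunctionCocontinuous_counit_app_hom, Functor.ranAdjunction_counit]
    have : ∀ X, IsIso ((u.op.ranCounit.app H.obj).app X) := fun X =>
      (u.op.isPointwiseRightKanExtensionRanCounit H.obj (u.op.obj X)).isIso_hom_app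
    exact @NatIso.isIso_of_isIso_app _ _ _ _ _ _ _ this
  exact isIso_of_fully_faithful (sheafToPresheaf _ _) _

theorem isIso_unit_continuous [(u.sheafPushforwardContinuous A J K).IsRightAdjoint] :
    IsIso (u.sheafAdjunctionContinuous A J K).unit := by
  let t : Adjunction.Triple _ _ _ :=
    { adj₁ := u.sheafAdjunctionContinuous A J K, adj₂ := u.sheafAdjunctionCocontinuous A J K }
  exact t.isIso_unit_iff_isIso_counit.2 (isIso_counit_cocontinuous J K u A)

theorem full_faithful_forget (U : C) (hU : ∀ V : C, Subsingleton (V ⟶ U)) :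
    (Over.forget U).Full ∧ (Over.forget U).Faithful :=
  ⟨⟨fun {X Y} f => ⟨Over.homMk f ((hU _).elim _ _), rfl⟩⟩,
    ⟨fun {X Y} _ _ h => Over.OverMorphism.ext h⟩⟩

end Groth.Agent.CohSiteLib2
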