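/-
Colimits of abelian groups over categories with filtered connected components preserve
monomorphisms; exactness of extension by zero along a cocontinuous functor.
-/
import Groth.Agent.KInj.Restrict
import Mathlib

set_option autoImplicit false
set_option linter.style.haveILetI false

universe u

open CategoryTheory CategoryTheory.Limits Opposite

namespace Groth.Agent.CohSiteLib2

/-- Every span completes to a commutative square, every parallel pair is coequalized. -/
structure FilteredComponents (J : Type u) [SmallCategory J] : Prop where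
  span : ∀ {a b c : J} (f : a ⟶ b) (g : a ⟶ c), ∃ (d : J) (p : b ⟶ d) (q : c ⟶ d), f ≫ p = g ≫ q
  pair : ∀ {a b : J} (f g : a ⟶ b), ∃ (d : J) (p : b ⟶ d), f ≫ p = g ≫ p

variable {J : Type u} [SmallCategory J]

/-- Two objects have a common target. -/
def Linked (a b : J) : Prop := ∃ d : J, Nonempty (a ⟶ d) ∧ Nonempty (b ⟶ d)

theorem Linked.symm {a b : J} : Linked a b → Linked b a := fun ⟨d, x, y⟩ => ⟨d, y, x⟩

theorem Linked.trans (h : FilteredComponents J) {a b c : J} :
    Linked a b → Linked b c → Linked a c := by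
  rintro ⟨d, ⟨x⟩, ⟨y⟩⟩ ⟨e, ⟨z⟩, ⟨w⟩⟩
  obtain ⟨k, p, q, -⟩ := h.span y z
  exact ⟨k, ⟨x ≫ p⟩, ⟨w ≫ q⟩⟩

/-- The component of an object. -/
abbrev Comp (a : J) := ObjectProperty.FullSubcategory (fun b : J => Linked a b)

theorem isFiltered_comp (h : FilteredComponents J) (a : J) : IsFiltered (Comp a) := by
  haveI : Nonempty (Comp a) := ⟨⟨a, a, ⟨𝟙 a⟩, ⟨𝟙 a⟩⟩⟩
  haveI : IsFilteredOrEmpty (Comp a) := by
    refine ⟨fun b c => ?_, fun b c f g => ?_⟩
    · obtain ⟨d, ⟨x⟩, ⟨y⟩⟩ := (b.property.symm.trans h c.property : Linked b.obj c.obj)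
      exact ⟨⟨d, b.property.trans h ⟨d, ⟨x⟩, ⟨𝟙 d⟩⟩⟩, ObjectProperty.homMk x,
        ObjectProperty.homMk y, trivial⟩
    · obtain ⟨d, p, hp⟩ := h.pair f.hom g.hom
      exact ⟨⟨d, c.property.trans h ⟨d, ⟨p⟩, ⟨𝟙 d⟩⟩⟩, ObjectProperty.homMk p,
        ObjectProperty.hom_ext _ hp⟩
  exact { }

open Classical in
/-- The projection of the colimit to the colimit over one component. -/
noncomputable def proj (h : FilteredComponents J) (F : J ⥤ AddCommGrpCat.{u}) (a : J) :
    colimit F ⟶ colimit (ObjectProperty.ι (fun b : J => Linked a b) ⋙ F) :=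
  colimit.desc F
    { pt := colimit (ObjectProperty.ι (fun b : J => Linked a b) ⋙ F)
      ι :=
        { app := fun b => if hb : Linked a b then
            colimit.ι (ObjectProperty.ι (fun b : J => Linked a b) ⋙ F) ⟨b, hb⟩ else 0
          naturality := fun b c f => by
            by_cases hb : Linked a b
            · have hc : Linked a c := hb.trans h ⟨c, ⟨f⟩, ⟨𝟙 c⟩⟩
              simp only [dif_pos hb, dif_pos hc, Functor.const_obj_map, Category.comp_id]
              exact colimit.w (ObjectProperty.ι (fun b : J => Linked a b) ⋙ F)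
                (ObjectProperty.homMk f : (⟨b, hb⟩ : Comp a) ⟶ ⟨c, hc⟩)
            · have hc : ¬ Linked a c := fun hc => hb (hc.trans h ⟨c, ⟨𝟙 c⟩, ⟨f⟩⟩)
              simp [dif_neg hb, dif_neg hc] } }

theorem ι_proj_of_linked (h : FilteredComponents J) (F : J ⥤ AddCommGrpCat.{u}) {a b : J}
    (hb : Linked a b) (x : F.obj b) :
    proj h F a (colimit.ι F b x) =
      colimit.ι (ObjectProperty.ι (fun b : J => Linked a b) ⋙ F) ⟨b, hb⟩ x := by
  have e : colimit.ι F b ≫ proj h F a =
      colimit.ι (ObjectProperty.ι (fun b : J => Linked a b) ⋙ F) ⟨b, hb⟩ := by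
    rw [proj, colimit.ι_desc]
    exact dif_pos hb
  exact congr($e x)

theorem ι_proj_of_not_linked (h : FilteredComponents J) (F : J ⥤ AddCommGrpCat.{u}) {a b : J}
    (hb : ¬ Linked a b) (x : F.obj b) : proj h F a (colimit.ι F b x) = 0 := by
  have e : colimit.ι F b ≫ proj h F a = 0 := by
    rw [proj, colimit.ι_desc]
    exact dif_neg hb
  exact congr($e x)

/-- A sum over pairwise unlinked objects. -/
def IsReducedRep (F : J ⥤ AddCommGrpCat.{u}) (x : ↑(colimit F : AddCommGrpCat.{u})) : Prop :=
  ∃ (s : Finset J) (v : ∀ j, F.obj j), (∀ i ∈ s, ∀ j ∈ s, Linked i j → i = j) ∧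
    x = ∑ j ∈ s, colimit.ι F j (v j)

theorem isReducedRep_add_ι (h : FilteredComponents J) (F : J ⥤ AddCommGrpCat.{u}) (x : ↑(colimit F : AddCommGrpCat.{u}))
    (hx : IsReducedRep F x) (b : J) (y : F.obj b) : IsReducedRep F (x + colimit.ι F b y) := by
  classical
  obtain ⟨s, v, hs, rfl⟩ := hx
  by_cases hb : ∃ j ∈ s, Linked j b
  · obtain ⟨j, hj, d, ⟨p⟩, ⟨q⟩⟩ := hb
    have hjd : Linked j d := ⟨d, ⟨p⟩, ⟨𝟙 d⟩⟩
    have hd : d ∉ s.erase j := by
      intro hd
      obtain ⟨hne, hd'⟩ := Finset.mem_erase.1 hd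
      exact hne (hs j hj d hd' hjd).symm
    refine ⟨insert d (s.erase j), Function.update v d (F.map p (v j) + F.map q y), ?_, ?_⟩
    · intro i hi k hk hik
      rcases Finset.mem_insert.1 hi with hi' | hi' <;> rcases Finset.mem_insert.1 hk with hk' | hk'
      · rw [hi', hk']
      · exact absurd (hs j hj k (Finset.mem_erase.1 hk').2 (hjd.trans h (hi' ▸ hik)))
          (Finset.mem_erase.1 hk').1.symm
      · exact absurd (hs i (Finset.mem_erase.1 hi').2 j hj ((hk' ▸ hik : Linked i d).trans h hjd.symm))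
          (Finset.mem_erase.1 hi').1
      · exact hs i (Finset.mem_erase.1 hi').2 k (Finset.mem_erase.1 hk').2 hik
    · have hsum : ∑ i ∈ s.erase j, colimit.ι F i
          (Function.update v d (F.map p (v j) + F.map q y) i) =
          ∑ i ∈ s.erase j, colimit.ι F i (v i) :=
        Finset.sum_congr rfl fun i hi => by
          rw [Function.update_of_ne (fun e : i = d => hd (e ▸ hi))]
      rw [Finset.sum_insert hd, Function.update_self, hsum, ← Finset.add_sum_erase s _ hj, map_add,
        ← ConcreteCategory.comp_apply, ← ConcreteCategory.comp_apply, colimit.w, colimit.w]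
      abel
  · push_neg at hb
    have hbs : b ∉ s := fun hbs => hb b hbs ⟨b, ⟨𝟙 b⟩, ⟨𝟙 b⟩⟩
    refine ⟨insert b s, Function.update v b y, ?_, ?_⟩
    · intro i hi k hk hik
      rcases Finset.mem_insert.1 hi with hi' | hi' <;> rcases Finset.mem_insert.1 hk with hk' | hk'
      · rw [hi', hk']
      · exact absurd (hi' ▸ hik : Linked b k).symm (hb k hk')
      · exact absurd (hk' ▸ hik : Linked i b) (hb i hi')
      · exact hs i hi' k hk' hik
    · have hsum : ∑ i ∈ s, colimit.ι F i (Function.update v b y i) =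
          ∑ i ∈ s, colimit.ι F i (v i) :=
        Finset.sum_congr rfl fun i hi => by
          rw [Function.update_of_ne (fun e : i = b => hbs (e ▸ hi))]
      rw [Finset.sum_insert hbs, Function.update_self, hsum, add_comm]

theorem isReducedRep (h : FilteredComponents J) (F : J ⥤ AddCommGrpCat.{u}) (x : ↑(colimit F : AddCommGrpCat.{u})) :
    IsReducedRep F x := by
  classical
  let H : AddSubgroup ↑(colimit F : AddCommGrpCat.{u}) :=
    AddSubgroup.closure {z | ∃ (j : J) (a : F.obj j), colimit.ι F j a = z}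
  have hx : x ∈ H := by
    have e : AddCommGrpCat.ofHom (QuotientAddGroup.mk' H) =
        (0 : colimit F ⟶ AddCommGrpCat.of (↑(colimit F : AddCommGrpCat.{u}) ⧸ H)) := by
      refine colimit.hom_ext fun j => ?_
      ext a
      exact (QuotientAddGroup.eq_zero_iff _).2 (AddSubgroup.subset_closure ⟨j, a, rfl⟩)
    exact (QuotientAddGroup.eq_zero_iff _).1 congr($e x)
  refine AddSubgroup.closure_induction_right (p := fun z _ => IsReducedRep F z) ?_ ?_ ?_ hx
  · exact ⟨∅, fun _ => 0, by simp, by simp⟩
  · rintro z - _ ⟨j, a, rfl⟩ hz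
    exact isReducedRep_add_ι h F z hz j a
  · rintro z - _ ⟨j, a, rfl⟩ hz
    rw [← map_neg]
    exact isReducedRep_add_ι h F z hz j _

theorem colim_preservesMono_of_filteredComponents (h : FilteredComponents J) :
    (colim : (J ⥤ AddCommGrpCat.{u}) ⥤ AddCommGrpCat.{u}).PreservesMonomorphisms := by
  refine ⟨fun {F G} φ _ => ?_⟩
  rw [AddCommGrpCat.mono_iff_injective]
  refine (injective_iff_map_eq_zero _).2 fun x hx => ?_
  obtain ⟨s, v, hs, rfl⟩ := isReducedRep h F x
  refine Finset.sum_eq_zero fun j hj => ?_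
  rw [map_sum] at hx
  have hφ : ∀ i, colim.map φ (colimit.ι F i (v i)) = colimit.ι G i (φ.app i (v i)) := fun i => by
    have e : colimit.ι F i ≫ colim.map φ = φ.app i ≫ colimit.ι G i := ι_colimMap φ i
    exact congr($e (v i))
  simp only [hφ] at hx
  have hx' := congrArg (proj h G j) hx
  rw [map_sum, map_zero, Finset.sum_eq_single j
    (fun i hi hij => ι_proj_of_not_linked h G (fun hl => hij (hs j hj i hi hl).symm) _)
    (fun hn => absurd hj hn)] at hx'
  have hjj : Linked j j := ⟨j, ⟨𝟙 j⟩, ⟨𝟙 j⟩⟩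
  rw [ι_proj_of_linked h G hjj] at hx'
  haveI := isFiltered_comp h j
  obtain ⟨k, f, g, hfg⟩ := Concrete.colimit_exists_of_rep_eq
    (ObjectProperty.ι (fun b : J => Linked j b) ⋙ G)
    (i := ⟨j, hjj⟩) (j := ⟨j, hjj⟩) (φ.app j (v j)) 0 (by rw [hx', map_zero])
  rw [map_zero] at hfg
  have h0 : φ.app k.obj (F.map f.hom (v j)) = 0 := by
    rw [NatTrans.naturality_apply]
    exact hfg
  haveI : Mono (φ.app k.obj) := inferInstance
  have h1 : F.map f.hom (v j) = 0 :=
    (AddCommGrpCat.mono_iff_injective (φ.app k.obj)).1 inferInstance (h0.trans (map_zero _).symm)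
  rw [← colimit.w F f.hom, ConcreteCategory.comp_apply, h1, map_zero]

variable {C D : Type u} [SmallCategory C] [SmallCategory D]

theorem lan_preservesMono (L : C ⥤ D)
    (h : ∀ V, FilteredComponents (CostructuredArrow L V)) :
    (L.lan : (C ⥤ AddCommGrpCat.{u}) ⥤ D ⥤ AddCommGrpCat.{u}).PreservesMonomorphisms := by
  refine ⟨fun {F G} φ _ => ?_⟩
  haveI : ∀ V, Mono ((L.lan.map φ).app V) := fun V => by
    haveI := colim_preservesMono_of_filteredComponents (h V)
    let hc : ∀ F : C ⥤ AddCommGrpCat.{u}, IsColimit ((Functor.LeftExtension.mk (L.lan.obj F)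
        (L.lanUnit.app F)).coconeAt V) := fun F =>
      Functor.isPointwiseLeftKanExtensionOfIsLeftKanExtension (L.lan.obj F) (L.lanUnit.app F) V
    let ψ := Functor.whiskerLeft (CostructuredArrow.proj L V) φ
    haveI : ∀ j, Mono (ψ.app j) := fun j => inferInstanceAs (Mono (φ.app _))
    haveI := NatTrans.mono_of_mono_app ψ
    refine colim.map_mono' ψ (hc F) (hc G) _ fun j => ?_
    have h1 := NatTrans.congr_app (L.lanUnit.naturality φ) j.left
    have h2 := (L.lan.map φ).naturality j.hom
    dsimp at h1 h2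
    show ((L.lanUnit.app F).app j.left ≫ (L.lan.obj F).map j.hom) ≫ (L.lan.map φ).app V =
      φ.app j.left ≫ (L.lanUnit.app G).app j.left ≫ (L.lan.obj G).map j.hom
    refine (Category.assoc _ _ _).trans ((congr_arg (_ ≫ ·) h2).trans ?_)
    exact ((Category.assoc _ _ _).symm.trans
      ((congr_arg (· ≫ (L.lan.obj G).map j.hom) h1.symm).trans (Category.assoc _ _ _)))
  exact NatTrans.mono_of_mono_app _

theorem filteredComponents_of_pullbacks (u : C ⥤ D) [HasPullbacks C] [HasEqualizers C]
    [PreservesLimitsOfShape WalkingCospan u] [PreservesLimitsOfShape WalkingParallelPair u]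
    (V : Dᵒᵖ) : FilteredComponents (CostructuredArrow u.op V) := by
  constructor
  · intro a b c f g
    let f' := f.left.unop
    let g' := g.left.unop
    have hf : b.hom.unop ≫ u.map f' = a.hom.unop := congrArg Quiver.Hom.unop (CostructuredArrow.w f)
    have hg : c.hom.unop ≫ u.map g' = a.hom.unop := congrArg Quiver.Hom.unop (CostructuredArrow.w g)
    have sq := (IsPullback.of_hasPullback f' g').map u
    let l := sq.lift b.hom.unop c.hom.unop (hf.trans hg.symm)
    refine ⟨CostructuredArrow.mk (Y := op (pullback f' g')) l.op,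
      CostructuredArrow.homMk (pullback.fst f' g').op (Quiver.Hom.unop_inj (sq.lift_fst _ _ _)),
      CostructuredArrow.homMk (pullback.snd f' g').op (Quiver.Hom.unop_inj (sq.lift_snd _ _ _)),
      CostructuredArrow.hom_ext _ _ (Quiver.Hom.unop_inj pullback.condition)⟩
  · intro a b f g
    let f' := f.left.unop
    let g' := g.left.unop
    have hf : b.hom.unop ≫ u.map f' = a.hom.unop := congrArg Quiver.Hom.unop (CostructuredArrow.w f)
    have hg : b.hom.unop ≫ u.map g' = a.hom.unop := congrArg Quiver.Hom.unop (CostructuredArrow.w g)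
    let hl := isLimitForkMapOfIsLimit u (equalizer.condition f' g') (equalizerIsEqualizer f' g')
    refine ⟨CostructuredArrow.mk (Y := op (equalizer f' g'))
        (Fork.IsLimit.lift hl b.hom.unop (hf.trans hg.symm)).op,
      CostructuredArrow.homMk (equalizer.ι f' g').op
        (Quiver.Hom.unop_inj (Fork.IsLimit.lift_ι hl)),
      CostructuredArrow.hom_ext _ _ (Quiver.Hom.unop_inj (equalizer.condition f' g'))⟩

theorem sheafPullback_preservesFiniteLimits (J : GrothendieckTopology C) (K : GrothendieckTopology D)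
    (u : C ⥤ D) [u.IsContinuous J K] [HasPullbacks C] [HasEqualizers C]
    [PreservesLimitsOfShape WalkingCospan u] [PreservesLimitsOfShape WalkingParallelPair u] :
    PreservesFiniteLimits (u.sheafPullback AddCommGrpCat.{u} J K) := by
  haveI := lan_preservesMono u.op (filteredComponents_of_pullbacks u)
  haveI : (Functor.sheafPullbackConstruction.sheafPullback u AddCommGrpCat.{u} J K
      ).PreservesMonomorphisms :=
    ⟨fun f _ => inferInstanceAs (Mono ((presheafToSheaf K _).map (u.op.lan.map f.hom)))⟩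
  haveI : (u.sheafPushforwardContinuous AddCommGrpCat.{u} J K).Additive := { }
  let adj := Functor.sheafPullbackConstruction.sheafAdjunctionContinuous u AddCommGrpCat.{u} J K
  haveI := adj.left_adjoint_additive
  haveI := KInj.preservesFiniteLimits_of_preservesMonomorphisms adj
  exact preservesFiniteLimits_of_natIso
    (Functor.sheafPullbackConstruction.sheafPullbackIso u AddCommGrpCat.{u} J K).symm

end Groth.Agent.CohSiteLib2
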