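/-
Constant abelian sheaves: exactness on sections and injectivity on H¹.
-/
import Groth.Prelude.Def_CohSite
import Mathlib

set_option autoImplicit false
set_option linter.style.haveILetI false

universe u

open CategoryTheory CategoryTheory.Limits Opposite Abelian

namespace Groth.Agent.CohSiteLib2

variable {C : Type u} [SmallCategory C] (J : GrothendieckTopology C)

/-- The constant abelian sheaf functor. -/
noncomputable abbrev cst : AddCommGrpCat.{u} ⥤ Sheaf J AddCommGrpCat.{u} :=
  constantSheaf J AddCommGrpCat.{u}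

instance : PreservesFiniteLimits (cst J) := by
  unfold cst constantSheaf
  infer_instance

instance : PreservesFiniteColimits (cst J) := by
  unfold cst constantSheaf
  infer_instance

instance : (cst J).Additive :=
  Functor.additive_of_preserves_binary_products _

theorem shortExact_cst {S : ShortComplex AddCommGrpCat.{u}} (hS : S.ShortExact) :
    (S.map (cst J)).ShortExact :=
  hS.map_of_exact _

/-- A natural set-theoretic section of a surjection of constant sheaves. -/
theorem exists_natural_section {B D : AddCommGrpCat.{u}} (g : B ⟶ D) (hg : Function.Surjective g) :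
    ∃ t : ∀ V : C, ((cst J).obj D).obj.obj (op V) → ((cst J).obj B).obj.obj (op V),
      (∀ V y, ((cst J).map g).hom.app (op V) (t V y) = y) ∧
      ∀ {V W : C} (f : W ⟶ V) y, ((cst J).obj B).obj.map f.op (t V y) =
        t W (((cst J).obj D).obj.map f.op y) := by
  let Fg := forget AddCommGrpCat.{u}
  let e := constantCommuteCompose J Fg
  let σ : Fg.obj D ⟶ Fg.obj B := ↾(Function.surjInv hg)
  have hσ : σ ≫ Fg.map g = 𝟙 _ := by
    ext y
    exact Function.surjInv_eq hg y
  let τ : (sheafCompose J Fg).obj ((cst J).obj D) ⟶ (sheafCompose J Fg).obj ((cst J).obj B) :=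
    e.hom.app D ≫ (constantSheaf J (Type u)).map σ ≫ e.inv.app B
  have hn := e.inv.naturality g
  have hτ : τ ≫ (sheafCompose J Fg).map ((cst J).map g) = 𝟙 _ := by
    show τ ≫ (constantSheaf J AddCommGrpCat.{u} ⋙ sheafCompose J Fg).map g = 𝟙 _
    simp only [τ, Category.assoc, ← hn]
    dsimp
    rw [← Functor.map_comp_assoc, hσ, CategoryTheory.Functor.map_id, Category.id_comp]
    exact e.hom_inv_id_app D
  refine ⟨fun V y => τ.hom.app (op V) y, fun V y => ?_, fun {V W} f y => ?_⟩
  · exact congrArg (fun t => t.hom.app (op V) y) hτ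
  · exact (congr($(τ.hom.naturality f.op) y)).symm

theorem sections_shortExact (S : ShortComplex AddCommGrpCat.{u}) (hS : S.ShortExact) (U : C)
    [(constantSheaf J AddCommGrpCat.{u} ⋙
      (sheafSections J AddCommGrpCat.{u}).obj (op U)).PreservesZeroMorphisms] :
    (S.map (constantSheaf J AddCommGrpCat.{u} ⋙
      (sheafSections J AddCommGrpCat.{u}).obj (op U))).ShortExact := by
  let G := sheafToPresheaf J AddCommGrpCat.{u} ⋙ (evaluation Cᵒᵖ AddCommGrpCat.{u}).obj (op U)
  haveI : G.Additive := { }
  haveI : PreservesFiniteLimits G := inferInstance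
  have h := G.preservesFiniteLimits_iff_forall_exact_map_and_mono.1 inferInstance _
    (shortExact_cst J hS)
  haveI := h.2
  refine { exact := h.1, mono_f := h.2, epi_g := ?_ }
  rw [AddCommGrpCat.epi_iff_surjective]
  obtain ⟨t, ht, -⟩ := exists_natural_section J S.g ((AddCommGrpCat.epi_iff_surjective _).1 hS.epi_g)
  exact fun y => ⟨t U y, ht U y⟩

theorem exists_lift {B D : AddCommGrpCat.{u}} (g : B ⟶ D) (hg : Function.Surjective g)
    (φ : (cst J).obj (AddCommGrpCat.of (ULift.{u} ℤ)) ⟶ (cst J).obj D) :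
    ∃ ψ : (cst J).obj (AddCommGrpCat.of (ULift.{u} ℤ)) ⟶ (cst J).obj B,
      ψ ≫ (cst J).map g = φ := by
  obtain ⟨t, ht, ht'⟩ := exists_natural_section J g hg
  let adj := sheafificationAdjunction J AddCommGrpCat.{u}
  let P : Cᵒᵖ ⥤ AddCommGrpCat.{u} := (Functor.const Cᵒᵖ).obj (AddCommGrpCat.of (ULift.{u} ℤ))
  let φ' : P ⟶ ((cst J).obj D).obj := adj.homEquiv P _ φ
  let ψ' : P ⟶ ((cst J).obj B).obj :=
    { app := fun V => (AddCommGrpCat.uliftZMultiplesAddEquiv _).symm
        (t V.unop (φ'.app V (ULift.up 1)))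
      naturality := fun V W f => by
        apply (AddCommGrpCat.uliftZMultiplesAddEquiv _).injective
        show (AddCommGrpCat.uliftZMultiplesAddEquiv _).symm (t W.unop (φ'.app W (ULift.up 1)))
            (ULift.up 1) = ((cst J).obj B).obj.map f
            ((AddCommGrpCat.uliftZMultiplesAddEquiv _).symm (t V.unop (φ'.app V (ULift.up 1)))
              (ULift.up 1))
        have e1 : ∀ (X : AddCommGrpCat.{u}) (x : X),
            (AddCommGrpCat.uliftZMultiplesAddEquiv X).symm x (ULift.up 1) = x := fun X x =>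
          (AddCommGrpCat.uliftZMultiplesAddEquiv X).apply_symm_apply x
        rw [e1, e1]
        refine Eq.trans ?_ (ht' f.unop _).symm
        exact congrArg (t W.unop) (congr($(φ'.naturality f) (ULift.up (1 : ℤ)))) }
  refine ⟨(adj.homEquiv P _).symm ψ', (adj.homEquiv P _).injective ?_⟩
  refine (adj.homEquiv_naturality_right _ _).trans ?_
  rw [Equiv.apply_symm_apply]
  refine NatTrans.ext (funext fun V => ?_)
  apply (AddCommGrpCat.uliftZMultiplesAddEquiv _).injective
  show ((cst J).map g).hom.app V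
    ((AddCommGrpCat.uliftZMultiplesAddEquiv _).symm (t V.unop (φ'.app V (ULift.up 1))) (ULift.up 1)) =
      φ'.app V (ULift.up 1)
  have e1 : ∀ (X : AddCommGrpCat.{u}) (x : X),
      (AddCommGrpCat.uliftZMultiplesAddEquiv X).symm x (ULift.up 1) = x := fun X x =>
    (AddCommGrpCat.uliftZMultiplesAddEquiv X).apply_symm_apply x
  rw [e1]
  exact ht V.unop _

theorem H_one_map_injective {A B : AddCommGrpCat.{u}} (f : A ⟶ B) [Mono f] :
    Function.Injective (Sheaf.H.map ((cst J).map f) 1) := by
  let S := ShortComplex.mk f (cokernel.π f) (cokernel.condition f)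
  have hS : S.ShortExact :=
    { exact := ShortComplex.exact_of_g_is_cokernel _ (cokernelIsCokernel f) }
  refine (injective_iff_map_eq_zero _).2 fun x hx => ?_
  have hx' : x.comp (Ext.mk₀ (S.map (cst J)).f) (add_zero 1) = 0 := hx
  obtain ⟨y, hy⟩ := Ext.covariant_sequence_exact₁ _ (shortExact_cst J hS) x hx' (zero_add 1)
  obtain ⟨φ, rfl⟩ := (Ext.mk₀_bijective _ _).2 y
  obtain ⟨ψ, hψ⟩ := exists_lift J S.g ((AddCommGrpCat.epi_iff_surjective _).1 hS.epi_g) φ
  let T := S.map (cst J)
  have hφ : φ = (show _ ⟶ T.X₂ from ψ) ≫ T.g := hψ.symm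
  rw [← hy, hφ]
  refine (congrArg (fun z => Ext.comp z (shortExact_cst J hS).extClass (zero_add 1))
    (Ext.mk₀_comp_mk₀ (show _ ⟶ T.X₂ from ψ) T.g).symm).trans ?_
  refine (Ext.comp_assoc_of_second_deg_zero _ _ _ _).trans ?_
  exact (congrArg ((Ext.mk₀ (show _ ⟶ T.X₂ from ψ)).comp · (zero_add 1))
    (shortExact_cst J hS).comp_extClass).trans (Ext.comp_zero _ _ _ _ _)

end Groth.Agent.CohSiteLib2
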