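/-
H¹ of a torsion free constant sheaf has no torsion for locally nonzero sections of constant ℤ.
-/
import Groth.Prelude.Def_CohSite
import Groth.Agent.CohSiteLib2.Const
import Mathlib

set_option autoImplicit false
set_option linter.style.haveILetI false
set_option backward.isDefEq.respectTransparency false

universe u

open CategoryTheory CategoryTheory.Limits Opposite Abelian

namespace Groth.Agent.CohSiteLib2

variable {C : Type u} [SmallCategory C] {J : GrothendieckTopology C}

/-- The group `ℤ`, universe lifted. -/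
abbrev Zs : AddCommGrpCat.{u} := AddCommGrpCat.of (ULift.{u} ℤ)

/-- The section given by a morphism from constant ℤ. -/
noncomputable def oneSec {F : Sheaf J AddCommGrpCat.{u}} (f : (cst J).obj Zs ⟶ F) (V : C) :
    F.obj.obj (op V) :=
  ((sheafificationAdjunction J AddCommGrpCat.{u}).homEquiv ((Functor.const Cᵒᵖ).obj Zs) F f).app (op V)
    (ULift.up 1)

theorem oneSec_map {F : Sheaf J AddCommGrpCat.{u}} (f : (cst J).obj Zs ⟶ F) {V W : C} (g : W ⟶ V) :
    F.obj.map g.op (oneSec f V) = oneSec f W :=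
  (congr($(((sheafificationAdjunction J AddCommGrpCat.{u}).homEquiv
    ((Functor.const Cᵒᵖ).obj Zs) F f).naturality g.op) (ULift.up (1 : ℤ)))).symm

theorem oneSec_comp {F G : Sheaf J AddCommGrpCat.{u}} (f : (cst J).obj Zs ⟶ F) (g : F ⟶ G) (V : C) :
    oneSec (f ≫ g) V = g.hom.app (op V) (oneSec f V) := by
  unfold oneSec
  rw [Adjunction.homEquiv_naturality_right]
  rfl

theorem oneSec_id_comp {F : Sheaf J AddCommGrpCat.{u}} (f : (cst J).obj Zs ⟶ F) (V : C) :
    oneSec f V = f.hom.app (op V) (oneSec (𝟙 _) V) := by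
  rw [← oneSec_comp, Category.id_comp]

theorem oneSec_ext {F : Sheaf J AddCommGrpCat.{u}} {f g : (cst J).obj Zs ⟶ F}
    (h : ∀ V, oneSec f V = oneSec g V) : f = g := by
  refine ((sheafificationAdjunction J AddCommGrpCat.{u}).homEquiv
    ((Functor.const Cᵒᵖ).obj Zs) F).injective ?_
  refine NatTrans.ext (funext fun V => ?_)
  exact (AddCommGrpCat.uliftZMultiplesAddEquiv _).injective (h V.unop)

theorem exists_oneSec {F : Sheaf J AddCommGrpCat.{u}} (p : ∀ V : C, F.obj.obj (op V))
    (hp : ∀ {V W : C} (g : W ⟶ V), F.obj.map g.op (p V) = p W) :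
    ∃ f : (cst J).obj Zs ⟶ F, ∀ V, oneSec f V = p V := by
  have e1 : ∀ (X : AddCommGrpCat.{u}) (x : X),
      (AddCommGrpCat.uliftZMultiplesAddEquiv X).symm x (ULift.up 1) = x := fun X x =>
    (AddCommGrpCat.uliftZMultiplesAddEquiv X).apply_symm_apply x
  let ψ : (Functor.const Cᵒᵖ).obj Zs ⟶ F.obj :=
    { app := fun V => (AddCommGrpCat.uliftZMultiplesAddEquiv _).symm (p V.unop)
      naturality := fun V W g => by
        apply (AddCommGrpCat.uliftZMultiplesAddEquiv _).injective
        show (AddCommGrpCat.uliftZMultiplesAddEquiv _).symm (p W.unop) (ULift.up 1) =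
          F.obj.map g ((AddCommGrpCat.uliftZMultiplesAddEquiv _).symm (p V.unop) (ULift.up 1))
        rw [e1, e1]
        exact (hp g.unop).symm }
  refine ⟨((sheafificationAdjunction J AddCommGrpCat.{u}).homEquiv
    ((Functor.const Cᵒᵖ).obj Zs) F).symm ψ, fun V => ?_⟩
  unfold oneSec
  rw [Equiv.apply_symm_apply]
  exact e1 _ _

theorem sheaf_ext (F : Sheaf J AddCommGrpCat.{u}) {V : C} {S : Sieve V} (hS : S ∈ J V)
    {x y : F.obj.obj (op V)}
    (h : ∀ ⦃W : C⦄ (f : W ⟶ V), S f → F.obj.map f.op x = F.obj.map f.op y) : x = y :=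
  ((((Presheaf.isSheaf_iff_isSheaf_forget J F.obj (forget AddCommGrpCat.{u})).1 F.property
    |> (isSheaf_iff_isSheaf_of_type J _).1) S hS).isSeparatedFor).ext h

/-- Where `n • 1 = m • 1` with `n ≠ m` in constant ℤ, all sections vanish. -/
theorem subsingleton_of_zsmul_one {V : C} {k : ℤ} (hk : k ≠ 0)
    (h : k • oneSec (𝟙 ((cst J).obj Zs)) V = 0) (F : Sheaf J AddCommGrpCat.{u}) :
    Subsingleton (F.obj.obj (op V)) := by
  let η := (sheafificationAdjunction J AddCommGrpCat.{u}).unit.app ((Functor.const Cᵒᵖ).obj Zs)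
  haveI : Presheaf.IsLocallyInjective J η := by
    have h := GrothendieckTopology.W_toSheafify J ((Functor.const Cᵒᵖ).obj Zs.{u})
    rw [GrothendieckTopology.W_iff_isLocallyBijective] at h
    simp only [η, sheafificationAdjunction_unit_app]
    exact h.1
  have h1 : oneSec (𝟙 ((cst J).obj Zs)) V = η.app (op V) (ULift.up 1) := by
    unfold oneSec
    rw [Adjunction.homEquiv_unit]; rfl
  have h2 : η.app (op V) (k • (ULift.up 1 : ULift.{u} ℤ)) = η.app (op V) 0 := by
    rw [map_zsmul, map_zero, ← h1]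
    exact h
  have hS := Presheaf.equalizerSieve_mem J η (X := op V) (k • (ULift.up 1 : ULift.{u} ℤ)) 0 h2
  refine ⟨fun a b => sheaf_ext F hS fun W f hf => absurd ?_ hk⟩
  have hf' : k • (ULift.up 1 : ULift.{u} ℤ) = 0 := hf
  simpa using congrArg ULift.down hf'

theorem exists_lift_of_smul {A : AddCommGrpCat.{u}} (hA : ∀ (m : ℤ) (a : A), m ≠ 0 → m • a = 0 → a = 0)
    {I Q : Sheaf J AddCommGrpCat.{u}} (i : (cst J).obj A ⟶ I) (π : I ⟶ Q) (w : i ≫ π = 0)
    (hS : (ShortComplex.mk i π w).ShortExact) {ι : Type*} (U : ι → C) (n : ι → ℤ) (hn : ∀ j, n j ≠ 0)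
    (hdis : ∀ (j j' : ι) (V : C), (V ⟶ U j) → (V ⟶ U j') → n j ≠ n j' →
      Subsingleton (((cst J).obj A).obj.obj (op V)))
    (hcov : ∀ V : C, ∃ R ∈ J V, ∀ ⦃W : C⦄ (g : W ⟶ V), R g → ∃ j, Nonempty (W ⟶ U j))
    (q : ∀ V : C, Q.obj.obj (op V)) (hq : ∀ {V W : C} (f : W ⟶ V), Q.obj.map f.op (q V) = q W)
    (g : ∀ V : C, I.obj.obj (op V)) (hg : ∀ {V W : C} (f : W ⟶ V), I.obj.map f.op (g V) = g W)
    (hgq : ∀ (j : ι) (V : C), (V ⟶ U j) → π.hom.app (op V) (g V) = n j • q V) :
    ∃ p : ∀ V : C, I.obj.obj (op V), (∀ V, π.hom.app (op V) (p V) = q V) ∧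
      ∀ {V W : C} (f : W ⟶ V), I.obj.map f.op (p V) = p W := by
  classical
  haveI := hS.mono_f
  haveI := hS.epi_g
  -- sections are left exact
  have hi : ∀ V : C, Function.Injective (i.hom.app (op V)) ∧
      ∀ x, π.hom.app (op V) x = 0 → ∃ a, i.hom.app (op V) a = x := by
    intro V
    let G := sheafToPresheaf J AddCommGrpCat.{u} ⋙ (evaluation Cᵒᵖ AddCommGrpCat.{u}).obj (op V)
    haveI : G.Additive := { }
    haveI : PreservesFiniteLimits G := inferInstance
    have h := G.preservesFiniteLimits_iff_forall_exact_map_and_mono.1 inferInstance _ hS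
    exact ⟨(AddCommGrpCat.mono_iff_injective _).1 h.2, fun x hx =>
      (ShortComplex.ab_exact_iff _).1 h.1 x hx⟩
  -- multiplication by a nonzero integer
  let M (m : ℤ) : A ⟶ A := m • 𝟙 A
  have hMinj : ∀ m : ℤ, m ≠ 0 → Mono (M m) := fun m hm => (AddCommGrpCat.mono_iff_injective _).2
    ((injective_iff_map_eq_zero _).2 fun a ha => hA m a hm ha)
  have hMapp : ∀ (m : ℤ) (V : C) x, ((cst J).map (M m)).hom.app (op V) x = m • x := by
    intro m V x
    simp only [M, Functor.map_zsmul, CategoryTheory.Functor.map_id]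
    rfl
  choose t ht ht' using fun m : ℤ => exists_natural_section J (cokernel.π (M m))
    ((AddCommGrpCat.epi_iff_surjective _).1 inferInstance)
  let red (m : ℤ) (V : C) := ((cst J).map (cokernel.π (M m))).hom.app (op V)
  have hred : ∀ (m : ℤ), m ≠ 0 → ∀ (V : C) (a a' : ((cst J).obj A).obj.obj (op V)),
      red m V a = red m V a' → ∃ c, m • c = a - a' := by
    intro m hm V a a' haa'
    haveI := hMinj m hm
    let S := ShortComplex.mk (M m) (cokernel.π (M m)) (cokernel.condition _)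
    have hS' : S.ShortExact :=
      { exact := ShortComplex.exact_of_g_is_cokernel _ (cokernelIsCokernel _) }
    let G := sheafToPresheaf J AddCommGrpCat.{u} ⋙ (evaluation Cᵒᵖ AddCommGrpCat.{u}).obj (op V)
    haveI : G.Additive := { }
    haveI : PreservesFiniteLimits G := inferInstance
    have h := G.preservesFiniteLimits_iff_forall_exact_map_and_mono.1 inferInstance _
      (shortExact_cst J hS')
    obtain ⟨c, hc⟩ := (ShortComplex.ab_exact_iff _).1 h.1 (a - a') (by
      show red m V (a - a') = 0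
      rw [map_sub, haa', sub_self])
    exact ⟨c, (hMapp m V c).symm.trans hc⟩
  have htf : ∀ (m : ℤ), m ≠ 0 → ∀ (V : C) (a : ((cst J).obj A).obj.obj (op V)), m • a = 0 → a = 0 := by
    intro m hm V a ha
    haveI := hMinj m hm
    let G := sheafToPresheaf J AddCommGrpCat.{u} ⋙ (evaluation Cᵒᵖ AddCommGrpCat.{u}).obj (op V)
    haveI : G.Additive := { }
    haveI : PreservesFiniteLimits G := inferInstance
    haveI : Mono ((cst J).map (M m)) := (cst J).map_mono _
    haveI : Mono (G.map ((cst J).map (M m))) := G.map_mono _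
    refine (AddCommGrpCat.mono_iff_injective (G.map ((cst J).map (M m)))).1 inferInstance ?_
    rw [map_zero]
    exact (hMapp m V a).trans ha
  -- the canonical lifts
  let Good (V : C) (p : I.obj.obj (op V)) : Prop :=
    π.hom.app (op V) p = q V ∧ ∀ (j : ι) (W : C) (f : W ⟶ V), (W ⟶ U j) →
      ∀ a, i.hom.app (op W) a = n j • I.obj.map f.op p - g W → a = t (n j) W (red (n j) W a)
  have hgood : ∀ {V W : C} (f : W ⟶ V) (p : I.obj.obj (op V)), Good V p →
      Good W (I.obj.map f.op p) := by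
    intro V W f p hp
    refine ⟨?_, fun j W' f' k a ha => hp.2 j W' (f' ≫ f) k a ?_⟩
    · rw [NatTrans.naturality_apply, hp.1, hq]
    · rw [ha, op_comp, Functor.map_comp]; rfl
  have huniq : ∀ (V : C) p p', Good V p → Good V p' → p = p' := by
    intro V p p' hp hp'
    obtain ⟨R, hR, hRU⟩ := hcov V
    refine sheaf_ext I hR fun W f hf => ?_
    obtain ⟨j, ⟨k⟩⟩ := hRU f hf
    have key : ∀ p, Good V p → ∃ a, i.hom.app (op W) a = n j • I.obj.map f.op p - g W := by
      intro p hp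
      refine (hi W).2 _ ?_
      rw [map_sub, map_zsmul, (hgood f p hp).1, hgq j W k, sub_self]
    obtain ⟨a, ha⟩ := key p hp
    obtain ⟨a', ha'⟩ := key p' hp'
    obtain ⟨b, hb⟩ := (hi W).2 (I.obj.map f.op p - I.obj.map f.op p') (by
      rw [map_sub, (hgood f p hp).1, (hgood f p' hp').1, sub_self])
    have hab : a - a' = n j • b := (hi W).1 (by
      rw [map_sub, map_zsmul, ha, ha', hb, zsmul_sub]; abel)
    have hredeq : red (n j) W a = red (n j) W a' := by
      rw [← sub_eq_zero, ← map_sub, hab, ← hMapp]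
      show red (n j) W (((cst J).map (M (n j))).hom.app (op W) b) = 0
      have h0 : (cst J).map (M (n j)) ≫ (cst J).map (cokernel.π (M (n j))) = 0 := by
        rw [← Functor.map_comp, cokernel.condition, Functor.map_zero]
      exact ConcreteCategory.congr_hom (NatTrans.congr_app (congrArg InducedCategory.Hom.hom h0) (op W)) b
    have : a = a' := by
      rw [hp.2 j W f k a ha, hp'.2 j W f k a' ha', hredeq]
    rw [this, sub_self, eq_comm] at hab
    rw [← sub_eq_zero, ← hb, htf _ (hn j) W b hab, map_zero]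
  -- local existence
  haveI : Presheaf.IsLocallySurjective J π.hom := (Sheaf.isLocallySurjective_iff_epi' _ π).2 hS.epi_g
  have hex : ∀ V : C, ∃ p, Good V p := by
    intro V
    obtain ⟨R, hR, hRU⟩ := hcov V
    let S := R ⊓ Presheaf.imageSieve π.hom (q V)
    have hS' : S ∈ J V := J.intersection_covering hR (Presheaf.imageSieve_mem J π.hom (q V))
    have loc : ∀ ⦃W : C⦄ (f : W ⟶ V), S f → ∃ p, Good W p := by
      rintro W f ⟨hfR, p₀, hp₀⟩
      obtain ⟨j, ⟨k⟩⟩ := hRU f hfR
      have hp₀' : π.hom.app (op W) p₀ = q W := hp₀.trans (hq f)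
      obtain ⟨a, ha⟩ := (hi W).2 (n j • p₀ - g W) (by
        rw [map_sub, map_zsmul, hp₀', hgq j W k, sub_self])
      obtain ⟨c, hc⟩ := hred (n j) (hn j) W a (t (n j) W (red (n j) W a)) (ht (n j) W _).symm
      refine ⟨p₀ - i.hom.app (op W) c, ?_, fun j' W' f' k' a' ha' => ?_⟩
      · rw [map_sub, hp₀', sub_eq_self]
        exact ConcreteCategory.congr_hom (NatTrans.congr_app (congrArg InducedCategory.Hom.hom w) (op W)) c
      by_cases hjj : n j' = n j
      · have h1 : i.hom.app (op W) (t (n j) W (red (n j) W a)) =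
            n j • (p₀ - i.hom.app (op W) c) - g W := by
          rw [zsmul_sub, ← map_zsmul, hc, map_sub, ha]; abel
        have h2 : a' = ((cst J).obj A).obj.map f'.op (t (n j) W (red (n j) W a)) := (hi W').1 (by
          rw [ha', hjj, NatTrans.naturality_apply, h1]; simp only [map_sub, map_zsmul, hg])
        rw [hjj, h2, ht', ht]
      · exact (hdis j' j W' k' (f' ≫ k) hjj).elim _ _
    choose p hp using loc
    have hF := ((Presheaf.isSheaf_iff_isSheaf_forget J I.obj (forget AddCommGrpCat.{u})).1 I.property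
      |> (isSheaf_iff_isSheaf_of_type J _).1) S hS'
    let x : Presieve.FamilyOfElements (I.obj ⋙ forget AddCommGrpCat.{u}) S.arrows := fun W f hf => p f hf
    have hx : x.Compatible := fun W₁ W₂ Z g₁ g₂ f₁ f₂ h₁ h₂ _ =>
      huniq Z _ _ (hgood g₁ _ (hp f₁ h₁)) (hgood g₂ _ (hp f₂ h₂))
    let P : I.obj.obj (op V) := hF.amalgamate x hx
    have hP : ∀ ⦃W : C⦄ (f : W ⟶ V) (hf : S f), I.obj.map f.op P = p f hf := fun W f hf =>
      hF.valid_glue hx f hf
    refine ⟨P, sheaf_ext Q hS' fun W f hf => ?_, fun j W f k a ha => ?_⟩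
    · rw [← NatTrans.naturality_apply, hP f hf, (hp f hf).1, hq]
    · refine sheaf_ext _ (J.pullback_stable f hS') fun W' f' hf' => ?_
      have h3 : i.hom.app (op W') (((cst J).obj A).obj.map f'.op a) =
          n j • I.obj.map (𝟙 W').op (p (f' ≫ f) hf') - g W' := by
        rw [NatTrans.naturality_apply, ha, map_sub, map_zsmul, hg, ← hP (f' ≫ f) hf']
        simp
      rw [(hp (f' ≫ f) hf').2 j W' (𝟙 W') (f' ≫ k) _ h3, ht']
      exact congrArg _ (NatTrans.naturality_apply _ _ _)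
  choose p hp using hex
  exact ⟨p, fun V => (hp V).1, fun f => huniq _ _ _ (hgood f _ (hp _)) (hp _)⟩

theorem H_one_eq_zero_of_locally_nonzero {A : AddCommGrpCat.{u}}
    (hA : ∀ (m : ℤ) (a : A), m ≠ 0 → m • a = 0 → a = 0)
    (φ : (cst J).obj Zs ⟶ (cst J).obj Zs) {ι : Type*} (U : ι → C) (n : ι → ℤ) (hn : ∀ i, n i ≠ 0)
    (hφ : ∀ (i : ι) (V : C) (_ : V ⟶ U i), φ.hom.app (op V) = n i • 𝟙 _)
    (hcov : ∀ V : C, ∃ R ∈ J V, ∀ ⦃W : C⦄ (g : W ⟶ V), R g → ∃ i, Nonempty (W ⟶ U i))
    (x : Sheaf.H ((cst J).obj A) 1) (hx : (Ext.mk₀ φ).comp x (zero_add 1) = 0) : x = 0 := by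
  let e : (cst J).obj A ⟶ Injective.under ((cst J).obj A) := Injective.ι _
  let S := ShortComplex.mk e (cokernel.π e) (cokernel.condition e)
  haveI : Mono S.f := inferInstanceAs (Mono e)
  haveI : Epi S.g := inferInstanceAs (Epi (cokernel.π e))
  have hS : S.ShortExact :=
    { exact := ShortComplex.exact_of_g_is_cokernel _ (cokernelIsCokernel e) }
  haveI : Injective S.X₂ := inferInstanceAs (Injective (Injective.under _))
  obtain ⟨y, hy⟩ := Ext.covariant_sequence_exact₁ _ hS x (Ext.eq_zero_of_injective _) (zero_add 1)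
  obtain ⟨h, rfl⟩ := (Ext.mk₀_bijective _ _).2 y
  have h0 : (Ext.mk₀ (φ ≫ h)).comp hS.extClass (zero_add 1) = 0 := by
    rw [← Ext.mk₀_comp_mk₀, Ext.comp_assoc_of_second_deg_zero, hy, hx]
  obtain ⟨y, hy'⟩ := Ext.covariant_sequence_exact₃ _ hS (Ext.mk₀ (φ ≫ h)) (zero_add 1) h0
  obtain ⟨g, rfl⟩ := (Ext.mk₀_bijective _ _).2 y
  rw [Ext.mk₀_comp_mk₀] at hy'
  have hg : g ≫ S.g = φ ≫ h := (Ext.mk₀_bijective _ _).1 hy'
  have hφ1 : ∀ (j : ι) (V : C), (V ⟶ U j) → ∀ z, φ.hom.app (op V) z = n j • z := fun j V k z => by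
    rw [hφ j V k]; rfl
  obtain ⟨p, hp, hp'⟩ := exists_lift_of_smul (A := A) hA S.f S.g S.zero hS U n hn (fun j j' V k k' hne =>
      subsingleton_of_zsmul_one (sub_ne_zero.2 hne) (by
        rw [sub_zsmul, ← hφ1 j V k, ← hφ1 j' V k', ← sub_eq_add_neg, sub_self]) _)
    hcov (oneSec h) (oneSec_map h) (oneSec g) (oneSec_map g) fun j V k => by
      rw [← oneSec_comp, hg, oneSec_comp]
      rw [oneSec_id_comp φ, hφ1 j V k, map_zsmul, ← oneSec_id_comp]
  obtain ⟨f, hf⟩ := exists_oneSec p hp'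
  have : h = f ≫ S.g := oneSec_ext fun V => by rw [oneSec_comp, hf, hp]
  rw [← hy, this, ← Ext.mk₀_comp_mk₀, Ext.comp_assoc_of_second_deg_zero, hS.comp_extClass,
    Ext.comp_zero]

end Groth.Agent.CohSiteLib2
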