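/-
Global cohomology as cohomology of a terminal object.
-/
import Groth.Prelude.Def_CohSite
import Groth.Agent.SiteBase.Basic
import Mathlib

set_option autoImplicit false

universe u

open CategoryTheory CategoryTheory.Limits Opposite

namespace Groth.Agent.CohSiteLib2

variable {C : Type u} [SmallCategory C] (J : GrothendieckTopology C) {T : C} (hT : IsTerminal T)

/-- The natural bijection between maps out of the two sheaves. -/
noncomputable def homEquivTerminal (F : Sheaf J AddCommGrpCat.{u}) :
    ((constantSheaf J AddCommGrpCat.{u}).obj (AddCommGrpCat.of (ULift ℤ)) ⟶ F) ≃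
      (SiteBase.freeAb J T ⟶ F) :=
  (((constantSheafAdj J AddCommGrpCat.{u} hT).homAddEquiv _ F).toEquiv.trans
    (AddCommGrpCat.uliftZMultiplesAddEquiv _).toEquiv).trans (SiteBase.secEquiv T F).symm

theorem homEquivTerminal_comp {F G : Sheaf J AddCommGrpCat.{u}}
    (φ : (constantSheaf J AddCommGrpCat.{u}).obj (AddCommGrpCat.of (ULift ℤ)) ⟶ F) (f : F ⟶ G) :
    homEquivTerminal J hT G (φ ≫ f) = homEquivTerminal J hT F φ ≫ f := by
  simp only [homEquivTerminal, Equiv.trans_apply]
  rw [SiteBase.secEquiv_symm_comp]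
  congr 1

/-- The free sheaf on a terminal object is the constant sheaf `ℤ`. -/
noncomputable def constIsoFree :
    (constantSheaf J AddCommGrpCat.{u}).obj (AddCommGrpCat.of (ULift ℤ)) ≅ SiteBase.freeAb J T where
  hom := (homEquivTerminal J hT _).symm (𝟙 _)
  inv := homEquivTerminal J hT _ (𝟙 _)
  hom_inv_id := by
    apply (homEquivTerminal J hT _).injective
    rw [homEquivTerminal_comp, Equiv.apply_symm_apply, Category.id_comp]
  inv_hom_id := by
    rw [← homEquivTerminal_comp, Category.id_comp, Equiv.apply_symm_apply]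

/-- `H^n(C, F) ≃ H^n(T, F)` for `T` terminal. -/
noncomputable def HEquivHU (F : Sheaf J AddCommGrpCat.{u}) (n : ℕ) :
    Sheaf.H F n ≃+ Abelian.Ext (SiteBase.freeAb J T) F n :=
  AddMonoidHom.toAddEquiv
    ((Abelian.Ext.mk₀ (constIsoFree J hT).inv).precomp F (zero_add n))
    ((Abelian.Ext.mk₀ (constIsoFree J hT).hom).precomp F (zero_add n))
    (by
      refine AddMonoidHom.ext fun x => ?_
      show (Abelian.Ext.mk₀ (constIsoFree J hT).hom).comp
        ((Abelian.Ext.mk₀ (constIsoFree J hT).inv).comp x (zero_add n)) (zero_add n) = x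
      rw [Abelian.Ext.mk₀_comp_mk₀_assoc, Iso.hom_inv_id, Abelian.Ext.mk₀_id_comp])
    (by
      refine AddMonoidHom.ext fun x => ?_
      show (Abelian.Ext.mk₀ (constIsoFree J hT).inv).comp
        ((Abelian.Ext.mk₀ (constIsoFree J hT).hom).comp x (zero_add n)) (zero_add n) = x
      rw [Abelian.Ext.mk₀_comp_mk₀_assoc, Iso.inv_hom_id, Abelian.Ext.mk₀_id_comp])

end Groth.Agent.CohSiteLib2
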