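/-
Weakly contractible objects in a site.
-/
import Groth.Prelude.Def_CohSite
import Groth.Agent.SiteBase.Basic
import Mathlib

set_option linter.style.haveILetI false

set_option autoImplicit false

universe w v u

open CategoryTheory CategoryTheory.Limits Opposite

namespace Groth.Agent.CohSiteLib2

variable {C : Type u} [Category.{v} C] (J : GrothendieckTopology C)

/-- Epimorphisms of sheaves of sets are surjective on sections over `U`. -/
def WC (U : C) : Prop :=
  ∀ (P Q : Sheaf J (Type w)) (ψ : P ⟶ Q), Epi ψ → Function.Surjective (ψ.hom.app (op U))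

variable {J}

theorem surjective_of_locSurj {U : C} (hU : WC.{w} J U) {P Q : Sheaf J AddCommGrpCat.{w}}
    (φ : P ⟶ Q) [Sheaf.IsLocallySurjective φ] : Function.Surjective (φ.hom.app (op U)) := by
  have h : Sheaf.IsLocallySurjective ((sheafCompose J (forget AddCommGrpCat.{w})).map φ) :=
    inferInstance
  exact hU _ _ ((sheafCompose J (forget AddCommGrpCat.{w})).map φ) inferInstance

theorem locSurj_of_cover (B : C → Prop)
    (hcov : ∀ V : C, ∃ S : Sieve V, S ∈ J V ∧ ∀ ⦃W : C⦄ (f : W ⟶ V), S.arrows f →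
      ∃ (U : C) (g : W ⟶ U) (h : U ⟶ V), B U ∧ g ≫ h = f)
    {A : Type*} [Category* A] {FA : A → A → Type*} {CA : A → Type*}
    [∀ X Y, FunLike (FA X Y) (CA X) (CA Y)] [ConcreteCategory A FA]
    {P Q : Sheaf J A} (φ : P ⟶ Q)
    (h : ∀ U, B U → Function.Surjective (φ.hom.app (op U))) :
    Sheaf.IsLocallySurjective φ := by
  constructor
  intro V s
  obtain ⟨S, hS, hf⟩ := hcov V
  refine J.superset_covering (fun W f hWf => ?_) hS
  obtain ⟨U, g, k, hBU, rfl⟩ := hf f hWf
  obtain ⟨t, ht⟩ := h U hBU (Q.obj.map k.op s)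
  refine ⟨P.obj.map g.op t, ?_⟩
  rw [NatTrans.naturality_apply, ht, ← ConcreteCategory.comp_apply, ← Functor.map_comp, ← op_comp]

section Ab

variable [HasSheafify J AddCommGrpCat.{w}] [J.WEqualsLocallyBijective AddCommGrpCat.{w}]

/-- Sections over `U`. -/
noncomputable abbrev sec (J : GrothendieckTopology C) [HasSheafify J AddCommGrpCat.{w}] (U : C) :
    Sheaf J AddCommGrpCat.{w} ⥤ AddCommGrpCat.{w} :=
  sheafToPresheaf J AddCommGrpCat.{w} ⋙ (evaluation Cᵒᵖ AddCommGrpCat.{w}).obj (op U)

theorem epi_sec_map {U : C} (hU : WC.{w} J U) {P Q : Sheaf J AddCommGrpCat.{w}} (φ : P ⟶ Q)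
    [Epi φ] : Epi ((sec J U).map φ) := by
  haveI : Sheaf.IsLocallySurjective φ := Sheaf.isLocallySurjective_iff_epi' AddCommGrpCat.{w} φ |>.2 inferInstance
  exact (AddCommGrpCat.epi_iff_surjective _).2 (surjective_of_locSurj hU φ)

theorem sec_preservesFiniteColimits {U : C} (hU : WC.{w} J U) :
    PreservesFiniteColimits (sec J U) := by
  haveI : (sec J U).Additive := { }
  refine ((sec J U).preservesFiniteColimits_iff_forall_exact_map_and_epi).2 fun S hS => ?_
  haveI := hS.epi_g
  haveI : PreservesFiniteLimits (sec J U) := inferInstance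
  exact ⟨((sec J U).preservesFiniteLimits_iff_forall_exact_map_and_mono.1 inferInstance S hS).1,
    epi_sec_map hU _⟩

theorem exact_iff_sections (B : C → Prop) (hB : ∀ U : C, B U → WC.{w} J U)
    (hcov : ∀ V : C, ∃ S : Sieve V, S ∈ J V ∧ ∀ ⦃W : C⦄ (f : W ⟶ V), S.arrows f →
      ∃ (U : C) (g : W ⟶ U) (h : U ⟶ V), B U ∧ g ≫ h = f)
    (S : ShortComplex (Sheaf J AddCommGrpCat.{w})) :
    S.Exact ↔ ∀ U : C, B U → (S.map (sec J U)).Exact := by
  constructor
  · intro hS U hU
    haveI := sec_preservesFiniteColimits (hB U hU)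
    exact hS.map (sec J U)
  · intro h
    rw [S.exact_iff_epi_kernel_lift, ← Sheaf.isLocallySurjective_iff_epi']
    refine locSurj_of_cover B hcov _ fun U hU => ?_
    show Function.Surjective ((sec J U).map (kernel.lift S.g S.f S.zero))
    haveI : (sec J U).Additive := { }
    haveI : Mono ((sec J U).map (kernel.ι S.g)) := inferInstance
    intro z
    obtain ⟨x, hx⟩ := (ShortComplex.ab_exact_iff _).1 (h U hU) ((sec J U).map (kernel.ι S.g) z) (by
      show ((sec J U).map (kernel.ι S.g) ≫ (sec J U).map S.g) z = 0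
      rw [← Functor.map_comp, kernel.condition, Functor.map_zero]
      rfl)
    refine ⟨x, (AddCommGrpCat.mono_iff_injective ((sec J U).map (kernel.ι S.g))).1 inferInstance ?_⟩
    exact (congrArg (fun t => t x) (((sec J U).map_comp _ _).symm.trans
      (congrArg (sec J U).map (kernel.lift_ι S.g S.f S.zero)))).trans hx

theorem hasExactLimitsOfShape (B : C → Prop) (hB : ∀ U : C, B U → WC.{w} J U)
    (hcov : ∀ V : C, ∃ S : Sieve V, S ∈ J V ∧ ∀ ⦃W : C⦄ (f : W ⟶ V), S.arrows f →
      ∃ (U : C) (g : W ⟶ U) (h : U ⟶ V), B U ∧ g ≫ h = f) (α : Type w) :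
    HasExactLimitsOfShape (Discrete α) (Sheaf J AddCommGrpCat.{w}) := by
  apply +allowSynthFailures hasExactLimitsOfShape_of_preservesEpi
  refine ⟨fun {X Y} f _ => ?_⟩
  rw [← Sheaf.isLocallySurjective_iff_epi']
  refine locSurj_of_cover B hcov _ fun U hU => ?_
  refine (AddCommGrpCat.epi_iff_surjective ((sec J U).map (lim.map f))).1 ?_
  have hn := (preservesLimitNatIso (J := Discrete α) (sec J U)).hom.naturality f
  haveI : ∀ j, Epi ((((Functor.whiskeringRight (Discrete α) _ _).obj (sec J U)).map f).app j) := by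
    intro j
    show Epi ((sec J U).map (f.app j))
    haveI : Epi (f.app j) := inferInstance
    exact epi_sec_map (hB U hU) _
  haveI := NatTrans.epi_of_epi_app (((Functor.whiskeringRight (Discrete α) _ _).obj (sec J U)).map f)
  haveI : Epi (lim.map (((Functor.whiskeringRight (Discrete α) _ _).obj (sec J U)).map f)) := inferInstance
  haveI : Epi ((lim ⋙ sec J U).map f) := by
    have he : (lim ⋙ sec J U).map f =
        ((preservesLimitNatIso (J := Discrete α) (sec J U)).app X).hom ≫
          lim.map (((Functor.whiskeringRight (Discrete α) _ _).obj (sec J U)).map f) ≫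
            ((preservesLimitNatIso (J := Discrete α) (sec J U)).app Y).inv := by
      rw [← Category.assoc, Iso.eq_comp_inv]
      exact hn
    rw [he]
    infer_instance
  exact inferInstanceAs (Epi ((lim ⋙ sec J U).map f))

end Ab

theorem surjective_π_of_wc {U : C} (hU : WC.{w} J U) (F : ℕᵒᵖ ⥤ Sheaf J (Type w))
    (hF : ∀ n : ℕ, Epi (F.map (homOfLE (Nat.le_succ n)).op))
    (c : Cone F) (hc : IsLimit c) (n : ℕ) : Function.Surjective ((c.π.app (op n)).hom.app (op U)) := by
  intro a
  let G := F ⋙ sheafToPresheaf J (Type w) ⋙ (evaluation Cᵒᵖ (Type w)).obj (op U)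
  have hG : ∀ m, Function.Surjective (G.map (homOfLE (Nat.le_succ m)).op) := fun m =>
    hU _ _ _ (hF m)
  let t : ∀ k : ℕ, G.obj (op (n + k)) := fun k => Nat.rec (motive := fun k => G.obj (op (n + k))) a
    (fun k z => (hG (n + k) z).choose) k
  have ht : ∀ k, G.map (homOfLE (Nat.le_succ (n + k))).op (t (k + 1)) = t k := fun k =>
    (hG (n + k) (t k)).choose_spec
  have key : ∀ (k : ℕ) (i : ℕ) (h : i ≤ n + k), G.map (homOfLE (h.trans (Nat.le_succ _))).op (t (k + 1)) =
      G.map (homOfLE h).op (t k) := fun k i h => by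
    rw [show (homOfLE (h.trans (Nat.le_succ (n + k)))).op =
      (homOfLE (Nat.le_succ (n + k))).op ≫ (homOfLE h).op from rfl]
    rw [Functor.map_comp, ConcreteCategory.comp_apply]
    exact congrArg (G.map (homOfLE h).op) (ht k)
  have key2 : ∀ (i k : ℕ), ∀ l, k ≤ l → ∀ (h : i ≤ n + k) (h' : i ≤ n + l),
      G.map (homOfLE h').op (t l) = G.map (homOfLE h).op (t k) := by
    intro i k l hkl
    induction hkl with
    | refl => intro h h'; rfl
    | @step l hl ih =>
      intro h h'
      exact (key l i (h.trans (Nat.add_le_add_left hl n))).trans (ih h _)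
  let s : G.sections := ⟨fun i => G.map (homOfLE (Nat.le_add_left i.unop n)).op (t i.unop), by
    rintro ⟨i⟩ ⟨j⟩ f
    have hij : j ≤ i := leOfHom f.unop
    have : f = (homOfLE hij).op := Subsingleton.elim _ _
    subst this
    refine Eq.trans ?_ (key2 j j i hij (Nat.le_add_left j n) (hij.trans (Nat.le_add_left i n)))
    rw [← ConcreteCategory.comp_apply, ← Functor.map_comp]
    rfl⟩
  let hc' : IsLimit ((sheafToPresheaf J (Type w) ⋙ (evaluation Cᵒᵖ (Type w)).obj (op U)).mapCone c) :=
    isLimitOfPreserves _ hc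
  refine ⟨(Types.isLimitEquivSections hc').symm s, ?_⟩
  refine (Types.isLimitEquivSections_symm_apply hc' s (op n)).trans ?_
  exact (key2 n 0 n (Nat.zero_le n) le_rfl (Nat.le_add_left n n)).trans (by
    show G.map (𝟙 _) a = a
    rw [G.map_id]; rfl)

theorem epi_π_of_wc
    (hwc : ∀ V : C, ∃ S : Sieve V, S ∈ J V ∧ ∀ ⦃W : C⦄ (f : W ⟶ V), S.arrows f →
      ∃ (U : C) (g : W ⟶ U) (h : U ⟶ V), WC.{w} J U ∧ g ≫ h = f)
    (F : ℕᵒᵖ ⥤ Sheaf J (Type w))
    (hF : ∀ n : ℕ, Epi (F.map (homOfLE (Nat.le_succ n)).op))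
    (c : Cone F) (hc : IsLimit c) (n : ℕ) : Epi (c.π.app (op n)) := by
  haveI := locSurj_of_cover (fun U => WC.{w} J U) hwc (c.π.app (op n))
    (fun U hU => surjective_π_of_wc hU F hF c hc n)
  infer_instance

theorem HU_subsingleton {C : Type u} [SmallCategory C] (J : GrothendieckTopology C) {U : C}
    (hU : CohSite.IsWeaklyContractible J U) (F : Sheaf J AddCommGrpCat.{u}) (p : ℕ) :
    Subsingleton (CohSite.HU F (p + 1) U) := by
  haveI : Projective (SiteBase.freeAb J U) := ⟨fun {E X} f e _ => by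
    haveI : Sheaf.IsLocallySurjective e := Sheaf.isLocallySurjective_iff_epi' AddCommGrpCat.{u} e |>.2 inferInstance
    obtain ⟨s, hs⟩ := surjective_of_locSurj hU e (SiteBase.secEquiv U X f)
    refine ⟨(SiteBase.secEquiv U E).symm s, (SiteBase.secEquiv U X).injective ?_⟩
    rw [SiteBase.secEquiv_comp, Equiv.apply_symm_apply]
    exact hs⟩
  rw [SiteBase.HU_eq]
  exact subsingleton_of_forall_eq 0 fun e => Abelian.Ext.eq_zero_of_projective e

end Groth.Agent.CohSiteLib2
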